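import Groth.Prelude.Def_Neron
import Mathlib.AlgebraicGeometry.Morphisms.SchemeTheoreticallyDominant
import Mathlib.AlgebraicGeometry.Morphisms.Flat
import Mathlib.AlgebraicGeometry.Morphisms.Separated

/-! # Uniqueness of extensions from generic fibres -/

universe u

open CategoryTheory CategoryTheory.Limits AlgebraicGeometry

namespace Groth.Agent.NeronBasic

theorem eq_of_stDominant {W X Y Z : Scheme.{u}} {f g : X ⟶ Y} (s : Y ⟶ Z) [IsSeparated s]
    (h : f ≫ s = g ≫ s) (ι : W ⟶ X) [IsSchemeTheoreticallyDominant ι] (hU : ι ≫ f = ι ≫ g) : f = g := by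
  let X' : Over Z := Over.mk (f ≫ s)
  let Y' : Over Z := Over.mk s
  let U' : Over Z := Over.mk (ι ≫ f ≫ s)
  let f' : X' ⟶ Y' := Over.homMk f
  let g' : X' ⟶ Y' := Over.homMk g
  let ι' : U' ⟶ X' := Over.homMk ι
  have : IsSeparated Y'.hom := ‹_›
  have hle : (equalizer.ι f' g').left.ker ≤ ι.ker := by
    have e : (equalizer.lift ι' (show ι' ≫ f' = ι' ≫ g' from by ext1; exact hU)).left ≫ (equalizer.ι f' g').left = ι := by
      rw [← Over.comp_left, equalizer.lift_ι]
      rfl
    conv_rhs => rw [← e]
    exact Scheme.Hom.le_ker_comp _ _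
  have : IsIso (equalizer.ι f' g').left := IsClosedImmersion.isIso_iff_ker_eq_bot.2 (le_bot_iff.1 (hle.trans_eq ι.ker_eq_bot))
  exact (cancel_epi (equalizer.ι f' g').left).1 (congrArg CommaMorphism.left (equalizer.condition f' g'))

variable (R : Type u) [CommRing R] [IsDomain R]

instance : IsSchemeTheoreticallyDominant (Neron.genPt R) := by
  haveI : IsReduced (Spec (CommRingCat.of R)) := inferInstance
  haveI : IsDominant (Neron.genPt R) := by
    rw [isDominant_iff]
    exact PrimeSpectrum.denseRange_comap_iff_ker_le_nilRadical _ |>.2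
      (by rw [(RingHom.injective_iff_ker_eq_bot _).1 (show Function.Injective (CommRingCat.ofHom (algebraMap R (FractionRing R))).hom from IsFractionRing.injective R (FractionRing R))]; exact bot_le)
  exact IsSchemeTheoreticallyDominant.of_isDominant _

theorem eq_of_map_genericFibre (X Y : Over (Spec (CommRingCat.of R))) [Flat X.hom] [IsSeparated Y.hom] (f g : X ⟶ Y)
    (h : (Neron.genericFibre R).map f = (Neron.genericFibre R).map g) : f = g := by
  ext
  refine eq_of_stDominant Y.hom ((Over.w f).trans (Over.w g).symm) (pullback.fst X.hom (Neron.genPt R)) ?_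
  have h1 := congrArg (fun k => k.left ≫ pullback.fst Y.hom (Neron.genPt R)) h
  simp only [Over.pullback_map_left, pullback.lift_fst] at h1
  exact h1

end Groth.Agent.NeronBasic
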