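import Groth.Agent.Neron6.Over
import Mathlib.CategoryTheory.Limits.Shapes.Pullback.IsPullback.Basic

/-! # The Neron property under base change -/

universe u

open CategoryTheory CategoryTheory.Limits AlgebraicGeometry

namespace Groth.Agent.NeronBasic

variable {S S' U V : Scheme.{u}} (g : S' ⟶ S) (i : U ⟶ S) (v : V ⟶ S') (t : V ⟶ U)
  (sq : IsPullback t v i g) (N : Over S) (Y' : Over S')

include sq in
theorem isPullback_paste :
    IsPullback (pullback.fst Y'.hom v) (pullback.snd Y'.hom v ≫ t) (Y'.hom ≫ g) i :=
  (IsPullback.of_hasPullback Y'.hom v).paste_vert sq.flip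

include sq in
theorem baseChange_injective
    (h : Function.Injective (fun f : Over.mk (Y'.hom ≫ g) ⟶ N => (Over.pullback i).map f)) :
    Function.Injective (fun f : Y' ⟶ (Over.pullback g).obj N => (Over.pullback v).map f) := by
  intro f₁ f₂ hf
  simp only at hf
  rw [Neron6.pullback_map_eq_iff] at hf
  let down : (Y' ⟶ (Over.pullback g).obj N) → (Over.mk (Y'.hom ≫ g) ⟶ N) := fun f =>
    Over.homMk (f.left ≫ pullback.fst N.hom g) (show (f.left ≫ pullback.fst N.hom g) ≫ N.hom = Y'.hom ≫ g by
      rw [← Over.w f, Category.assoc, pullback.condition]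
      exact (Category.assoc _ _ _).symm)
  have hd : down f₁ = down f₂ := h (by
    simp only
    rw [Neron6.pullback_map_eq_iff]
    let P := isPullback_paste g i v t sq Y'
    rw [← cancel_epi P.isoPullback.hom]
    show P.isoPullback.hom ≫ pullback.fst (Y'.hom ≫ g) i ≫ f₁.left ≫ pullback.fst N.hom g =
      P.isoPullback.hom ≫ pullback.fst (Y'.hom ≫ g) i ≫ f₂.left ≫ pullback.fst N.hom g
    rw [← Category.assoc, ← Category.assoc P.isoPullback.hom, IsPullback.isoPullback_hom_fst, ← Category.assoc, hf, Category.assoc])
  refine Neron6.pullback_hom_ext g _ _ ?_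
  exact congrArg CommaMorphism.left hd

include sq in
theorem baseChange_surjective
    (h : Function.Surjective (fun f : Over.mk (Y'.hom ≫ g) ⟶ N => (Over.pullback i).map f)) :
    Function.Surjective (fun f : Y' ⟶ (Over.pullback g).obj N => (Over.pullback v).map f) := by
  intro b
  let P := isPullback_paste g i v t sq Y'
  let k : pullback (Y'.hom ≫ g) i ⟶ N.left :=
    P.isoPullback.inv ≫ b.left ≫ pullback.fst ((Over.pullback g).obj N).hom v ≫ pullback.fst N.hom g
  have hw : b.left ≫ pullback.snd ((Over.pullback g).obj N).hom v = pullback.snd Y'.hom v := Over.w b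
  have hk : k ≫ N.hom = pullback.snd (Y'.hom ≫ g) i ≫ i := by
    simp only [k, Category.assoc]
    rw [pullback.condition, Iso.inv_comp_eq, ← Category.assoc (pullback.fst ((Over.pullback g).obj N).hom v),
      show pullback.fst ((Over.pullback g).obj N).hom v ≫ pullback.snd N.hom g = pullback.snd _ v ≫ v from pullback.condition,
      Category.assoc, ← Category.assoc b.left, hw, ← sq.w, IsPullback.isoPullback_hom_snd_assoc, Category.assoc]
  obtain ⟨f, hf⟩ := h (Over.homMk (pullback.lift k (pullback.snd (Y'.hom ≫ g) i) hk) (pullback.lift_snd _ _ _) :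
    (Over.pullback i).obj (Over.mk (Y'.hom ≫ g)) ⟶ (Over.pullback i).obj N)
  have hf' : pullback.fst (Y'.hom ≫ g) i ≫ f.left = k := by
    have h1 := congrArg (fun z => z.left ≫ pullback.fst N.hom i) hf
    simp only at h1
    rw [Neron6.pullback_map_fst] at h1
    exact h1.trans (pullback.lift_fst _ _ _)
  refine ⟨Over.homMk (pullback.lift f.left Y'.hom (Over.w f)) (pullback.lift_snd _ _ _), ?_⟩
  refine Neron6.pullback_hom_ext v _ _ ?_
  rw [Neron6.pullback_map_fst]
  refine pullback.hom_ext ?_ ?_
  · show (pullback.fst Y'.hom v ≫ pullback.lift f.left Y'.hom _) ≫ pullback.fst N.hom g =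
      (b.left ≫ pullback.fst ((Over.pullback g).obj N).hom v) ≫ pullback.fst N.hom g
    rw [Category.assoc, pullback.lift_fst, ← P.isoPullback_hom_fst, Category.assoc]
    erw [hf']
    simp [k]
  · show (pullback.fst Y'.hom v ≫ pullback.lift f.left Y'.hom _) ≫ pullback.snd N.hom g =
      (b.left ≫ pullback.fst ((Over.pullback g).obj N).hom v) ≫ pullback.snd N.hom g
    rw [Category.assoc, pullback.lift_snd, Category.assoc,
      show pullback.fst ((Over.pullback g).obj N).hom v ≫ pullback.snd N.hom g = pullback.snd _ v ≫ v from pullback.condition,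
      ← Category.assoc b.left, hw, pullback.condition]

end Groth.Agent.NeronBasic
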